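import Cfsg.Agent.S5093
import Cfsg.Agent.H802.FusGroup

/-!
# S5175, T8: hyperfocal subgroup with respect to a cyclic quotient
-/

set_option autoImplicit false

namespace Cfsg.Agent.H476.HM8

open Cfsg Cfsg.FusionSystem Cfsg.Agent.H802

/-- `m ^ n = 1` mod `2 ^ k` with `n` odd implies `m = 1` mod `2 ^ k` -/
theorem dvd_sub_one_of_pow (k n : ℕ) (hn : Odd n) (m : ℤ) (h : (2 ^ k : ℤ) ∣ m ^ n - 1) :
    (2 ^ k : ℤ) ∣ m - 1 := by
  rcases Nat.eq_zero_or_pos k with rfl | hk
  · simp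
  have h2 : (2 : ℤ) ∣ m ^ n - 1 := (dvd_pow_self 2 hk.ne').trans h
  have hm : Odd m := by
    by_contra hcon
    rw [Int.not_odd_iff_even] at hcon
    have h3 : (2 : ℤ) ∣ m ^ n := (even_iff_two_dvd.1 hcon).trans (dvd_pow_self m hn.pos.ne')
    have h4 : (2 : ℤ) ∣ 1 := by
      have := dvd_sub h3 h2
      rwa [sub_sub_cancel] at this
    omega
  have hg : m ^ n - 1 = (∑ i ∈ Finset.range n, m ^ i) * (m - 1) := (geom_sum_mul m n).symm
  have hodd : Odd (∑ i ∈ Finset.range n, m ^ i) := by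
    have hall : ∀ j : ℕ, Even ((∑ i ∈ Finset.range j, m ^ i) + j) := by
      intro j
      induction j with
      | zero => simp
      | succ j ih =>
        rw [Finset.sum_range_succ]
        have : (∑ i ∈ Finset.range j, m ^ i) + m ^ j + ((j + 1 : ℕ) : ℤ) =
            ((∑ i ∈ Finset.range j, m ^ i) + j) + (m ^ j + 1) := by push_cast; ring
        rw [this]
        exact ih.add (hm.pow.add_one)
    have h1 := hall n
    rw [Int.even_add'] at h1
    exact h1.2 (by exact_mod_cast hn)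
  have hcop : IsCoprime (2 ^ k : ℤ) (∑ i ∈ Finset.range n, m ^ i) := by
    apply IsCoprime.pow_left
    rw [Int.isCoprime_iff_gcd_eq_one]
    rw [← Int.natAbs_odd] at hodd
    have h5 : Nat.Coprime 2 (∑ i ∈ Finset.range n, m ^ i).natAbs := by
      rw [Nat.coprime_two_left]
      exact hodd
    simpa [Int.gcd] using h5
  rw [hg] at h
  exact hcop.dvd_of_dvd_mul_left h

/-- An automorphism of odd order acts trivially on a cyclic 2-quotient it preserves. -/
theorem trivial_on_cyclic {R C : Type*} [Group R] [Group C] [IsCyclic C] (f : R →* C)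
    (α : MulAut R) (hf : ∀ x, f x = 1 → f (α x) = 1) (hR : ∀ x : R, ∃ k : ℕ, x ^ 2 ^ k = 1)
    (n : ℕ) (hn : Odd n) (hα : α ^ n = 1) (x : R) : f (α x) = f x := by
  obtain ⟨⟨_, x₀, rfl⟩, hx₀⟩ := IsCyclic.exists_generator (α := f.range)
  have hgen : ∀ y : R, ∃ k : ℤ, f y = f x₀ ^ k := by
    intro y
    obtain ⟨k, hk⟩ := Subgroup.mem_zpowers_iff.1 (hx₀ ⟨f y, y, rfl⟩)
    refine ⟨k, ?_⟩
    have := congrArg Subtype.val hk
    simpa using this.symm
  obtain ⟨m, hm⟩ := hgen (α x₀)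
  have key : ∀ y : R, f (α y) = f y ^ m := by
    intro y
    obtain ⟨k, hk⟩ := hgen y
    have h1 : f (y * (x₀ ^ k)⁻¹) = 1 := by
      rw [map_mul, map_inv, map_zpow, hk, mul_inv_cancel]
    have h2 := hf _ h1
    rw [map_mul, map_mul, map_inv, map_inv, map_zpow, map_zpow, mul_inv_eq_one] at h2
    rw [h2, hm, hk, ← zpow_mul, ← zpow_mul, mul_comm]
  have key2 : ∀ (j : ℕ) (y : R), f ((α ^ j) y) = f y ^ (m ^ j) := by
    intro j
    induction j with
    | zero => intro y; simp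
    | succ j ih =>
      intro y
      rw [pow_succ', MulAut.mul_apply, key, ih, ← zpow_mul, pow_succ]
  obtain ⟨k, hk⟩ := hR x₀
  have hpk : f x₀ ^ (2 ^ k) = 1 := by rw [← map_pow, hk, map_one]
  have hord : orderOf (f x₀) ∣ 2 ^ k := orderOf_dvd_of_pow_eq_one hpk
  obtain ⟨j, -, hj⟩ := (Nat.dvd_prime_pow Nat.prime_two).1 hord
  have h3 : f x₀ ^ (m ^ n - 1) = 1 := by
    have h4 := key2 n x₀
    rw [hα, MulAut.one_apply] at h4
    rw [zpow_sub, zpow_one, ← h4, mul_inv_cancel]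
  have h5 : ((2 : ℤ) ^ j) ∣ m ^ n - 1 := by
    have := orderOf_dvd_iff_zpow_eq_one.2 h3
    rw [hj] at this
    exact_mod_cast this
  have h6 := dvd_sub_one_of_pow j n hn m h5
  have h7 : f x₀ ^ (m - 1) = 1 := by
    apply orderOf_dvd_iff_zpow_eq_one.1
    rw [hj]
    exact_mod_cast h6
  have h8 : f x₀ ^ m = f x₀ := by
    rw [zpow_sub, zpow_one, mul_inv_eq_one] at h7
    exact h7
  obtain ⟨k', hk'⟩ := hgen x
  rw [key, hk', ← zpow_mul, mul_comm, zpow_mul, h8]

/-- `S ∩ O²(G) ≤ A` for a strongly closed subgroup `A` of the Sylow 2-subgroup `S` with `S / A` cyclic. -/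
theorem inf_pResidual_le {G : Type*} [Group G] [Finite G] (S : Sylow 2 G) (A : Subgroup G)
    (hstr : ∀ g : G, ∀ a ∈ A, g * a * g⁻¹ ∈ S → g * a * g⁻¹ ∈ A)
    {C : Type*} [Group C] [IsCyclic C] (f : ↥(S : Subgroup G) →* C)
    (hf : ∀ x, f x = 1 ↔ (x : G) ∈ A) :
    (S : Subgroup G) ⊓ pResidual 2 G ≤ A := by
  rw [← Cfsg.Agent.S5093.result 2 S]
  unfold Cfsg.FusionSystem.hyperfocalSubgroup
  rw [Subgroup.closure_le]
  rintro y ⟨P, α, x, hP, hα, rfl⟩
  -- for all `x` at once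
  suffices h : ∀ β : ↥((groupFusionSystem (S : Subgroup G)).autGroup P),
      β ∈ pResidual 2 ↥((groupFusionSystem (S : Subgroup G)).autGroup P) →
      ∀ x : P, (x : G)⁻¹ * (((β : MulAut P) x : P) : G) ∈ A from h α hα x
  intro β hβ
  refine Subgroup.closure_induction
    (p := fun (β : ↥((groupFusionSystem (S : Subgroup G)).autGroup P)) _ =>
      ∀ x : P, (x : G)⁻¹ * (((β : MulAut P) x : P) : G) ∈ A) ?_ ?_ ?_ ?_ hβ
  · intro γ hγ x
    -- odd order
    have hγ1 : Nat.Coprime (orderOf γ) 2 := hγ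
    have hodd : Odd (orderOf γ) := (Nat.coprime_two_right).1 hγ1
    obtain ⟨hPS, -, g, hg⟩ := (mem_autGroup_iff _ hP (γ : MulAut P)).1 γ.2
    have hg' : ∀ x : P, (((γ : MulAut P) x : P) : G) = g * x * g⁻¹ := hg
    let f' : P →* C := f.comp (Subgroup.inclusion hP)
    have hf' : ∀ y : P, f' y = 1 ↔ (y : G) ∈ A := fun y => hf _
    have htriv := trivial_on_cyclic f' (γ : MulAut P) (fun y hy => by
        rw [hf'] at hy ⊢
        rw [hg']
        apply hstr g y hy
        rw [← hg']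
        exact hP ((γ : MulAut P) y).2) (fun y => by
        obtain ⟨k, hk⟩ := S.isPGroup' ⟨y, hP y.2⟩
        refine ⟨k, Subtype.ext ?_⟩
        have := congrArg Subtype.val hk
        simpa using this) (orderOf γ) hodd (by
        have := congrArg Subtype.val (pow_orderOf_eq_one γ)
        exact this) x
    have h2 : f' (x⁻¹ * (γ : MulAut P) x) = 1 := by
      rw [map_mul, map_inv, htriv, inv_mul_cancel]
    rw [hf'] at h2
    exact h2
  · intro x
    simp
  · intro a b _ _ ha hb x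
    have h1 := ha ((b : MulAut P) x)
    have h2 := hb x
    have h3 : (x : G)⁻¹ * ((((a * b : _) : MulAut P) x : P) : G) =
        ((x : G)⁻¹ * (((b : MulAut P) x : P) : G)) *
          ((((b : MulAut P) x : P) : G)⁻¹ * (((a : MulAut P) ((b : MulAut P) x) : P) : G)) := by
      rw [mul_assoc, mul_inv_cancel_left]
      rfl
    have h4 := A.mul_mem h2 h1
    rw [← h3] at h4
    exact h4
  · intro a _ ha x
    have h1 := ha (((a⁻¹ : _) : MulAut P) x)
    have h5 : (a : MulAut P) ((((a⁻¹ : _) : ↥((groupFusionSystem (S : Subgroup G)).autGroup P)) : MulAut P) x) = x := by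
      have : ((a⁻¹ : ↥((groupFusionSystem (S : Subgroup G)).autGroup P)) : MulAut P) = (a : MulAut P)⁻¹ := rfl
      rw [this, MulAut.apply_inv_self]
    rw [h5] at h1
    have h6 := A.inv_mem h1
    rw [mul_inv_rev, inv_inv] at h6
    exact h6

end Cfsg.Agent.H476.HM8
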