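import Cfsg.Agent.H476.HM8.Coord
import Cfsg.Agent.H476.HM8.Cyc
import Cfsg.Agent.H802.SylIn

/-!
# S5175, T8: the configuration inside `MulAut V`
-/

set_option autoImplicit false

namespace Cfsg.Agent.H476.HM8

open Cfsg Cfsg.Agent.H802 Matrix

variable {V K : Type*} [Group V] [Field K]

local notation "SL2" => Matrix.SpecialLinearGroup (Fin 2)

/-- upper unitriangular -/
def um (s : K) : SL2 K := ⟨!![1, s; 0, 1], by simp [Matrix.det_fin_two_of]⟩
/-- lower unitriangular -/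
def lm (s : K) : SL2 K := ⟨!![1, 0; s, 1], by simp [Matrix.det_fin_two_of]⟩
/-- the Weyl element -/
def wm : SL2 K := ⟨!![0, 1; -1, 0], by simp [Matrix.det_fin_two_of]⟩
/-- diagonal elements -/
def dm (s : K) (hs : s ≠ 0) : SL2 K := ⟨!![s, 0; 0, s⁻¹], by simp [Matrix.det_fin_two_of, hs]⟩

theorem coe_um (s : K) : (um s : Matrix (Fin 2) (Fin 2) K) = !![1, s; 0, 1] := rfl
theorem coe_lm (s : K) : (lm s : Matrix (Fin 2) (Fin 2) K) = !![1, 0; s, 1] := rfl
theorem coe_wm : ((wm : SL2 K) : Matrix (Fin 2) (Fin 2) K) = !![0, 1; -1, 0] := rfl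
theorem coe_dm (s : K) (hs : s ≠ 0) : (dm s hs : Matrix (Fin 2) (Fin 2) K) = !![s, 0; 0, s⁻¹] := rfl

theorem um_mul (s t : K) : um s * um t = um (s + t) := by
  apply Subtype.ext
  rw [Matrix.SpecialLinearGroup.coe_mul, coe_um, coe_um, coe_um, Matrix.mul_fin_two]
  simp [add_comm]

theorem um_zero : um (0 : K) = 1 := by
  apply Subtype.ext
  rw [coe_um, Matrix.SpecialLinearGroup.coe_one, Matrix.one_fin_two]

theorem um_inv (s : K) : (um s)⁻¹ = um (-s) := by
  rw [inv_eq_iff_mul_eq_one, um_mul, add_neg_cancel, um_zero]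

theorem um_injective : Function.Injective (um : K → SL2 K) := by
  intro s t h
  have := congrArg (fun M : SL2 K => (M : Matrix (Fin 2) (Fin 2) K) 0 1) h
  simpa [coe_um] using this

theorem wm_conj (s : K) : wm * um s * wm⁻¹ = lm (-s) := by
  rw [mul_inv_eq_iff_eq_mul]
  apply Subtype.ext
  rw [Matrix.SpecialLinearGroup.coe_mul, Matrix.SpecialLinearGroup.coe_mul, coe_um, coe_wm, coe_lm,
    Matrix.mul_fin_two, Matrix.mul_fin_two]
  simp

theorem dm_conj (l : K) (hl : l ≠ 0) (s : K) : dm l hl * um s * (dm l hl)⁻¹ = um (l ^ 2 * s) := by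
  rw [mul_inv_eq_iff_eq_mul]
  apply Subtype.ext
  rw [Matrix.SpecialLinearGroup.coe_mul, Matrix.SpecialLinearGroup.coe_mul, coe_um, coe_um, coe_dm,
    Matrix.mul_fin_two, Matrix.mul_fin_two]
  congr 1
  ext i j
  fin_cases i <;> fin_cases j <;> simp
  field_simp

/-- a normal subgroup containing the upper unitriangular matrices is everything -/
theorem eq_top_of_um (N : Subgroup (SL2 K)) (hN : ∀ s, um s ∈ N) (hw : ∀ s, lm s ∈ N) : N = ⊤ := by
  have key : ∀ M : SL2 K, M 1 0 ≠ 0 → M ∈ N := by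
    intro M hM
    have h1 : M = um ((M 0 0 - 1) / M 1 0) * lm (M 1 0) * um ((M 1 1 - 1) / M 1 0) := by
      have hd : M 0 0 * M 1 1 - M 0 1 * M 1 0 = 1 := by
        have := M.2
        rwa [Matrix.det_fin_two] at this
      have hM' : (M : Matrix (Fin 2) (Fin 2) K) 1 0 ≠ 0 := hM
      apply Subtype.ext
      rw [Matrix.SpecialLinearGroup.coe_mul, Matrix.SpecialLinearGroup.coe_mul, coe_um, coe_um, coe_lm,
        Matrix.mul_fin_two, Matrix.mul_fin_two]
      ext i j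
      fin_cases i <;> fin_cases j <;> simp
      · field_simp
        ring
      · field_simp
        linear_combination -hd
      · field_simp
        ring
    rw [h1]
    exact N.mul_mem (N.mul_mem (hN _) (hw _)) (hN _)
  rw [eq_top_iff]
  intro M _
  by_cases hM : M 1 0 = 0
  · have hd : M 0 0 * M 1 1 = 1 := by
      have := M.2
      rw [Matrix.det_fin_two, show (M : Matrix (Fin 2) (Fin 2) K) 1 0 = 0 from hM, mul_zero, sub_zero] at this
      exact this
    have h2 : (M * lm 1 : SL2 K) 1 0 ≠ 0 := by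
      have : (M * lm 1 : SL2 K) 1 0 = M 1 1 := by
        show ((M * lm 1 : SL2 K) : Matrix (Fin 2) (Fin 2) K) 1 0 = _
        rw [Matrix.SpecialLinearGroup.coe_mul, coe_lm]
        simp [Matrix.mul_apply, Fin.sum_univ_two,
          show (M : Matrix (Fin 2) (Fin 2) K) 1 0 = 0 from hM]
      rw [this]
      intro h
      rw [h, mul_zero] at hd
      exact zero_ne_one hd
    have h3 := key _ h2
    have h4 := N.mul_mem h3 (N.inv_mem (hw 1))
    rwa [mul_inv_cancel_right] at h4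
  · exact key M hM

/-- the hypotheses, without faithfulness -/
structure Cfg0 (c : Crd V K) (G T E A : Subgroup (MulAut V)) (ρ : E ≃* SL2 K) : Prop where
  hρ : ∀ (e : E) (v : V), c.X ((e : MulAut V) v) = ρ e 0 0 * c.X v + ρ e 0 1 * c.Y v ∧
    c.Y ((e : MulAut V) v) = ρ e 1 0 * c.X v + ρ e 1 1 * c.Y v
  hV : ∀ v : V, v * v = 1
  EG : E ≤ G
  syl : SylIn 2 T G
  hA : ∀ a, a ∈ A ↔ ∃ s, ((ρ.symm (um s) : E) : MulAut V) = a
  AT : A ≤ T
  TE : ∀ t ∈ T, ∀ e ∈ E, t * e * t⁻¹ ∈ E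
  TA : ∀ t ∈ T, ∀ a ∈ A, t * a * t⁻¹ ∈ A
  D : ∀ v, c.X v = 0 → c.Y v = 0 → ∀ e ∈ E, e v = v
  Z : ∀ v, c.Y v = 0 → ∀ a ∈ A, a v = v

/-- the hypotheses -/
structure Cfg (c : Crd V K) (G T E A : Subgroup (MulAut V)) (ρ : E ≃* SL2 K) : Prop extends
    Cfg0 c G T E A ρ where
  Tf : ∀ t ∈ T, (∀ v, c.X (t v) = c.X v ∧ c.Y (t v) = c.Y v) → t = 1

namespace Cfg0

variable {c : Crd V K} {G T E A : Subgroup (MulAut V)} {ρ : E ≃* SL2 K} (h : Cfg0 c G T E A ρ)

include h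

theorem acts (M : SL2 K) (v : V) : c.X ((ρ.symm M : MulAut V) v) = M 0 0 * c.X v + M 0 1 * c.Y v ∧
    c.Y ((ρ.symm M : MulAut V) v) = M 1 0 * c.X v + M 1 1 * c.Y v := by
  have := h.hρ (ρ.symm M) v
  rwa [MulEquiv.apply_symm_apply] at this

theorem acts_lm (s : K) (v : V) : c.X ((ρ.symm (lm s) : MulAut V) v) = c.X v ∧
    c.Y ((ρ.symm (lm s) : MulAut V) v) = c.Y v + s * c.X v := by
  have h1 := h.acts (lm s) v
  have e1 : (lm s : SL2 K) 0 0 = 1 := rfl
  have e2 : (lm s : SL2 K) 0 1 = 0 := rfl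
  have e3 : (lm s : SL2 K) 1 0 = s := rfl
  have e4 : (lm s : SL2 K) 1 1 = 1 := rfl
  rw [e1, e2, e3, e4] at h1
  exact ⟨by rw [h1.1]; ring, by rw [h1.2]; ring⟩

theorem isU_um (s : K) : c.IsU s (ρ.symm (um s) : MulAut V) := by
  intro v
  have := h.acts (um s) v
  simpa [um] using this

theorem E_eq {e e' : MulAut V} (he : e ∈ E) (he' : e' ∈ E)
    (hh : ∀ v, c.X (e v) = c.X (e' v) ∧ c.Y (e v) = c.Y (e' v)) : e = e' := by
  have h1 : ρ ⟨e, he⟩ = ρ ⟨e', he'⟩ := by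
    obtain ⟨v, hv1, hv2⟩ := c.surj 1 0
    obtain ⟨w, hw1, hw2⟩ := c.surj 0 1
    have a1 := h.hρ ⟨e, he⟩ v
    have a2 := h.hρ ⟨e', he'⟩ v
    have a3 := h.hρ ⟨e, he⟩ w
    have a4 := h.hρ ⟨e', he'⟩ w
    simp only [hv1, hv2, hw1, hw2, mul_one, mul_zero, add_zero, zero_add] at a1 a2 a3 a4
    have b1 := hh v
    have b2 := hh w
    rw [a1.1, a1.2, a2.1, a2.2] at b1
    rw [a3.1, a3.2, a4.1, a4.2] at b2
    apply Subtype.ext
    ext i j
    fin_cases i <;> fin_cases j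
    · exact b1.1
    · exact b2.1
    · exact b1.2
    · exact b2.2
  have h2 := ρ.injective h1
  exact congrArg Subtype.val h2

theorem AE : A ≤ E := by
  intro a ha
  obtain ⟨s, rfl⟩ := (h.hA a).1 ha
  exact (ρ.symm (um s)).2

theorem TG : T ≤ G := h.syl.le

theorem exists_isU (a : MulAut V) (ha : a ∈ A) : ∃ s, c.IsU s a := by
  obtain ⟨s, rfl⟩ := (h.hA a).1 ha
  exact ⟨s, h.isU_um s⟩

theorem exists_mem (s : K) : ∃ a ∈ A, c.IsU s a := ⟨_, (h.hA _).2 ⟨s, rfl⟩, h.isU_um s⟩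

theorem Z_iff (v : V) : c.Y v = 0 ↔ ∀ a ∈ A, a v = v := by
  refine ⟨h.Z v, fun hv => ?_⟩
  obtain ⟨a, ha, hU⟩ := h.exists_mem 1
  have := (hU v).1
  rw [hv a ha, one_mul] at this
  linear_combination -this

/-- a nontrivial element of `A` has fixed points `Z` -/
theorem Z_of_fix {a : MulAut V} (ha : a ∈ A) (ha1 : a ≠ 1) {v : V} (hv : a v = v) : c.Y v = 0 := by
  obtain ⟨s, rfl⟩ := (h.hA a).1 ha
  have h1 := (h.isU_um s v).1
  rw [hv] at h1
  have h2 : s * c.Y v = 0 := by linear_combination -h1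
  rcases mul_eq_zero.1 h2 with h3 | h3
  · exfalso
    apply ha1
    rw [h3, um_zero, map_one]
    rfl
  · exact h3

theorem D_iff (v : V) : (c.X v = 0 ∧ c.Y v = 0) ↔ ∀ e ∈ E, e v = v := by
  refine ⟨fun hv => h.D v hv.1 hv.2, fun hv => ?_⟩
  have h1 : c.Y v = 0 := (h.Z_iff v).2 (fun a ha => hv a (h.AE ha))
  refine ⟨?_, h1⟩
  have h2 := (h.acts (lm 1) v).2
  rw [hv _ (ρ.symm (lm 1)).2, h1] at h2
  simp [lm] at h2
  exact h2.symm

theorem TEinv {t : MulAut V} (ht : t ∈ T) {e : MulAut V} (he : e ∈ E) : t⁻¹ * e * t ∈ E := by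
  have := h.TE t⁻¹ (T.inv_mem ht) e he
  rwa [inv_inv] at this

theorem TAinv {t : MulAut V} (ht : t ∈ T) {e : MulAut V} (he : e ∈ A) : t⁻¹ * e * t ∈ A := by
  have := h.TA t⁻¹ (T.inv_mem ht) e he
  rwa [inv_inv] at this

theorem nice {t : MulAut V} (ht : t ∈ T) : c.Nice A t where
  D := by
    intro v
    rw [h.D_iff, h.D_iff]
    constructor
    · intro h1 e he
      have h2 := h1 _ (h.TE t ht e he)
      rw [MulAut.mul_apply, MulAut.mul_apply, MulAut.inv_apply_self] at h2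
      exact t.injective h2
    · intro h1 e he
      have h2 := h1 _ (h.TEinv ht he)
      rw [MulAut.mul_apply, MulAut.mul_apply] at h2
      have h3 := congrArg t h2
      rwa [MulAut.apply_inv_self] at h3
  Z := by
    intro v
    rw [h.Z_iff, h.Z_iff]
    constructor
    · intro h1 e he
      have h2 := h1 _ (h.TA t ht e he)
      rw [MulAut.mul_apply, MulAut.mul_apply, MulAut.inv_apply_self] at h2
      exact t.injective h2
    · intro h1 e he
      have h2 := h1 _ (h.TAinv ht he)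
      rw [MulAut.mul_apply, MulAut.mul_apply] at h2
      have h3 := congrArg t h2
      rwa [MulAut.apply_inv_self] at h3
  A := h.TA t ht

theorem T_pow {t : MulAut V} (ht : t ∈ T) : ∃ k : ℕ, t ^ 2 ^ k = 1 := by
  obtain ⟨k, hk⟩ := h.syl.isPGroup ⟨t, ht⟩
  refine ⟨k, ?_⟩
  have := congrArg Subtype.val hk
  simpa using this

/-- an element of `T` acting trivially on `V / Z` and on `Z / D` acts as an element of `A` -/
theorem exists_isU_of {t : MulAut V} (ht : t ∈ T) (h1 : ∀ v, c.Y (t v) = c.Y v)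
    (h2 : ∀ v, c.Y v = 0 → c.X (t v) = c.X v) : ∃ s, c.IsU s t := by
  have he := h.TE t ht (ρ.symm (lm 1) : E) (ρ.symm (lm 1)).2
  exact Crd.exists_isU (c := c) (t := t) (e := (ρ.symm (lm 1) : MulAut V))
    (m00 := ρ ⟨_, he⟩ 0 0) (m01 := ρ ⟨_, he⟩ 0 1) h1 h2 (fun v => by
      have := h.acts_lm 1 v
      rw [one_mul] at this
      exact this) (fun v => (h.hρ ⟨_, he⟩ v).1)

/-- an element of `T` acting trivially on `V / Z` acts as an element of `A` -/
theorem exists_isU_of' [Finite K] [CharP K 2] {t : MulAut V} (ht : t ∈ T) (h1 : ∀ v, c.Y (t v) = c.Y v) :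
    ∃ s, c.IsU s t := by
  obtain ⟨σ, α, γ, hs⟩ := Crd.exists_semi (c := c) (A := A) (fun a ha => h.exists_isU a ha)
    (fun s => h.exists_mem s) (h.nice ht)
  have e1 : ∀ y, y = γ * σ y := by
    intro y
    obtain ⟨v, -, hv⟩ := c.surj 0 y
    have := hs.2.2.1 v
    rw [h1, hv] at this
    exact this
  have e2 : γ = 1 := by
    have := e1 1
    rw [map_one, mul_one] at this
    exact this.symm
  have e3 : σ = 1 := by
    apply RingEquiv.ext
    intro y
    have := e1 y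
    rw [e2, one_mul] at this
    exact this.symm
  rw [e3] at hs
  obtain ⟨k, hk⟩ := h.T_pow ht
  obtain ⟨rfl, -⟩ := hs.unip k hk
  exact h.exists_isU_of ht h1 (fun v hv => by simpa using hs.2.2.2 v hv)

end Cfg0

namespace Cfg

variable {c : Crd V K} {G T E A : Subgroup (MulAut V)} {ρ : E ≃* SL2 K} (h : Cfg c G T E A ρ)

include h

/-- an element of `T` acting trivially on `V / Z` and on `Z / D` is in `A` -/
theorem mem_A {t : MulAut V} (ht : t ∈ T) (h1 : ∀ v, c.Y (t v) = c.Y v)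
    (h2 : ∀ v, c.Y v = 0 → c.X (t v) = c.X v) : t ∈ A := by
  obtain ⟨s, hU⟩ := h.exists_isU_of ht h1 h2
  obtain ⟨a, ha, hUa⟩ := h.exists_mem s
  have h3 : a⁻¹ * t = 1 := by
    apply h.Tf _ (T.mul_mem (T.inv_mem (h.AT ha)) ht)
    intro v
    rw [MulAut.mul_apply]
    have h4 := hUa (a⁻¹ (t v))
    rw [MulAut.apply_inv_self] at h4
    have h5 := hU v
    rw [h4.2] at h5
    refine ⟨?_, h5.2⟩
    have h6 := h4.1
    rw [h5.1, h5.2] at h6
    linear_combination -h6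
  rw [inv_mul_eq_one] at h3
  rw [← h3]
  exact ha

/-- the homomorphism to the automorphism group of the field, with kernel `A` -/
theorem exists_hom [Finite K] [CharP K 2] : ∃ f : T →* RingAut K, (∀ t : T, f t = 1 ↔ (t : MulAut V) ∈ A) ∧
    ∀ t : T, (∀ a ∈ A, (t : MulAut V) * a = a * t) → f t = 1 := by
  obtain ⟨f, hf⟩ := Crd.exists_hom (c := c) (A := A) (fun a ha => h.exists_isU a ha)
    (fun s => h.exists_mem s) T.subtype (fun t => h.nice t.2)
  refine ⟨f, fun t => ⟨fun ht => ?_, fun ht => ?_⟩, fun t ht => ?_⟩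
  · obtain ⟨α, γ, hs⟩ := hf t
    rw [ht] at hs
    obtain ⟨k, hk⟩ := h.T_pow t.2
    obtain ⟨rfl, rfl⟩ := hs.unip k hk
    obtain ⟨-, -, h1, h2⟩ := hs
    exact h.mem_A t.2 (fun v => by simpa using h1 v) (fun v hv => by simpa using h2 v hv)
  · obtain ⟨α, γ, hs⟩ := hf t
    obtain ⟨s, hU⟩ := h.exists_isU _ ht
    have h1 : c.IsSemi (t : MulAut V) 1 1 1 := by
      refine ⟨one_ne_zero, one_ne_zero, fun v => ?_, fun v hv => ?_⟩
      · rw [(hU v).2]; simp
      · rw [(hU v).1, hv]; simp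
    exact (hs.unique h1).1
  · obtain ⟨α, γ, hs⟩ := hf t
    exact hs.eq_one_of_comm (fun s => h.exists_mem s) ht

/-- `C_T(A) ≤ A` -/
theorem cent [Finite K] [CharP K 2] {t : MulAut V} (ht : t ∈ T) (hc : ∀ a ∈ A, t * a = a * t) : t ∈ A := by
  obtain ⟨f, hf, hf'⟩ := h.exists_hom
  exact (hf ⟨t, ht⟩).1 (hf' ⟨t, ht⟩ hc)

end Cfg

end Cfsg.Agent.H476.HM8
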