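import Cfsg.Agent.S2789

/-!
# S5175, T8: a group with a TI Sylow 2-subgroup generated by 2-elements acting with an offender is `SL₂(F)`
-/

set_option autoImplicit false

namespace Cfsg.Agent.H476.HM8

open Cfsg
open scoped commutatorElement

/-- a non-normal TI Sylow 2-subgroup: its normalizer is strongly embedded -/
theorem strong {H : Type*} [Group H] [Finite H] (P : Sylow 2 H)
    (hP1 : (P : Subgroup H) ≠ ⊥)
    (hTI : ∀ g : H, ∀ a ∈ (P : Subgroup H), a ≠ 1 → g * a * g⁻¹ ∈ (P : Subgroup H) →
      g ∈ Subgroup.normalizer ((P : Subgroup H) : Set H))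
    (hn : Subgroup.normalizer ((P : Subgroup H) : Set H) ≠ ⊤) :
    IsStronglyPEmbedded 2 (Subgroup.normalizer ((P : Subgroup H) : Set H)) := by
  refine ⟨?_, hn, P, ?_⟩
  · have h1 : Nat.card (P : Subgroup H) ∣ Nat.card H := Subgroup.card_subgroup_dvd_card _
    obtain ⟨k, hk⟩ := IsPGroup.iff_card.1 P.isPGroup'
    have h2 : k ≠ 0 := by
      rintro rfl
      rw [pow_zero] at hk
      exact hP1 (Subgroup.card_eq_one.1 hk)
    rw [hk] at h1
    exact (dvd_pow_self 2 h2).trans h1
  · unfold kGeneratedCore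
    refine iSup_le ?_
    rintro ⟨Q, hQP, hQr⟩
    intro g hg
    have hQ1 : Q ≠ ⊥ := by
      rintro rfl
      apply hQr
      intro A _ _
      have : Subsingleton (⊥ : Subgroup H) := inferInstance
      have h3 : Nat.card A = 1 := Nat.card_eq_one_iff_unique.2 ⟨inferInstance, ⟨1⟩⟩
      rw [h3]
      simp
    obtain ⟨a, haQ, ha1⟩ := (Subgroup.bot_or_exists_ne_one Q).resolve_left hQ1
    have h4 : g * a * g⁻¹ ∈ Q := (Subgroup.mem_normalizer_iff.1 hg a).1 haQ
    exact hTI g a (hQP haQ) ha1 (hQP h4)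

theorem emb {V H : Type*} [Group V] [Finite V] [Group H] [Finite H] (φ : H →* MulAut V)
    (hφ : Function.Injective φ) (hV : ∀ v : V, v * v = 1) (P : Sylow 2 H)
    (hPe : ∀ a ∈ (P : Subgroup H), a * a = 1) (hP1 : (P : Subgroup H) ≠ ⊥)
    (hTI : ∀ g : H, ∀ a ∈ (P : Subgroup H), a ≠ 1 → g * a * g⁻¹ ∈ (P : Subgroup H) →
      g ∈ Subgroup.normalizer ((P : Subgroup H) : Set H))
    (hn : Subgroup.normalizer ((P : Subgroup H) : Set H) ≠ ⊤)
    (hgen : ∀ K : Subgroup H, (P : Subgroup H) ≤ K → K.Normal → K = ⊤)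
    (hVgen : ∀ W : Subgroup V, (∀ g : H, ∀ w ∈ W, φ g w ∈ W) →
      (∀ v, (∀ a ∈ (P : Subgroup H), φ a v = v) → v ∈ W) → W = ⊤)
    (hoff : Nat.card V ≤ Nat.card (P : Subgroup H) * Nat.card {v : V // ∀ a ∈ (P : Subgroup H), φ a v = v}) :
    ∃ (F : Type) (_ : Field F) (_ : Fintype F), (∀ x : F, x + x = 0) ∧
      Nonempty (H ≃* Matrix.SpecialLinearGroup (Fin 2) F) := by
  classical
  haveI : Fact (Nat.Prime 2) := ⟨Nat.prime_two⟩
  haveI : Finite (V ⋊[φ] H) := Finite.of_equiv _ (SemidirectProduct.equivProd).symm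
  set V' : Subgroup (V ⋊[φ] H) := (SemidirectProduct.inl : V →* V ⋊[φ] H).range with hV'
  set H' : Subgroup (V ⋊[φ] H) := (SemidirectProduct.inr : H →* V ⋊[φ] H).range with hH'
  let e : H ≃* H' := MonoidHom.ofInjective SemidirectProduct.inr_injective
  have he : ∀ h : H, ((e h : H') : V ⋊[φ] H) = SemidirectProduct.inr h := fun h => rfl
  have hcommV : ∀ a b : V, a * b = b * a := by
    intro a b
    have h1 := hV (a * b)
    have h2 := hV a
    have h3 := hV b
    have : a * b = (a * b)⁻¹ := (inv_eq_of_mul_eq_one_left h1).symm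
    rw [this, mul_inv_rev, inv_eq_of_mul_eq_one_left h2, inv_eq_of_mul_eq_one_left h3]
  have hV'n : V'.Normal := by
    rw [hV', SemidirectProduct.range_inl_eq_ker_rightHom]
    infer_instance
  have hact : ∀ (h : H) (v : V), (SemidirectProduct.inr h : V ⋊[φ] H) * SemidirectProduct.inl v *
      (SemidirectProduct.inr h)⁻¹ = SemidirectProduct.inl (φ h v) := by
    intro h v
    rw [SemidirectProduct.inl_aut, map_inv]
  -- the Sylow subgroup of `H'`
  let P' : Sylow 2 H' := P.mapSurjective e.surjective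
  have hP' : ((P' : Subgroup H') : Subgroup H') = (P : Subgroup H).map e.toMonoidHom := rfl
  have hmemP' : ∀ h : H, e h ∈ (P' : Subgroup H') ↔ h ∈ (P : Subgroup H) := by
    intro h
    rw [hP', Subgroup.mem_map_equiv, MulEquiv.symm_apply_apply]
  set T : Subgroup (V ⋊[φ] H) := (P' : Subgroup H').map H'.subtype with hT
  have hmemT : ∀ x, x ∈ T ↔ ∃ a ∈ (P : Subgroup H), SemidirectProduct.inr a = x := by
    intro x
    rw [hT, Subgroup.mem_map]
    constructor
    · rintro ⟨y, hy, rfl⟩
      obtain ⟨a, rfl⟩ := e.surjective y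
      exact ⟨a, (hmemP' a).1 hy, rfl⟩
    · rintro ⟨a, ha, rfl⟩
      exact ⟨e a, (hmemP' a).2 ha, rfl⟩
  have hTH : T ≤ H' := by
    rw [hT]
    exact Subgroup.map_subtype_le _
  have hTcomm : ∀ x ∈ T, ∀ y ∈ T, x * y = y * x := by
    intro x hx y hy
    obtain ⟨a, ha, rfl⟩ := (hmemT x).1 hx
    obtain ⟨b, hb, rfl⟩ := (hmemT y).1 hy
    rw [← map_mul, ← map_mul]
    congr 1
    have h1 := hPe (a * b) ((P : Subgroup H).mul_mem ha hb)
    have h2 := hPe a ha
    have h3 := hPe b hb
    have : a * b = (a * b)⁻¹ := (inv_eq_of_mul_eq_one_left h1).symm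
    rw [this, mul_inv_rev, inv_eq_of_mul_eq_one_left h2, inv_eq_of_mul_eq_one_left h3]
  have hcentV : ∀ h : H, (SemidirectProduct.inr h : V ⋊[φ] H) ∈ Subgroup.centralizer (V' : Set (V ⋊[φ] H)) →
      h = 1 := by
    intro h hh
    apply hφ
    rw [map_one]
    apply MulEquiv.ext
    intro v
    rw [MulAut.one_apply]
    have h1 := Subgroup.mem_centralizer_iff.1 hh (SemidirectProduct.inl v) ⟨v, rfl⟩
    apply (SemidirectProduct.inl_injective : Function.Injective (SemidirectProduct.inl : V → V ⋊[φ] H))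
    rw [← hact, ← h1]
    group
  have hTcent : T ⊓ Subgroup.centralizer (V' : Set (V ⋊[φ] H)) = ⊥ := by
    rw [eq_bot_iff]
    rintro x ⟨hx1, hx2⟩
    obtain ⟨a, ha, rfl⟩ := (hmemT x).1 hx1
    rw [hcentV a hx2, map_one]
    exact Subgroup.mem_bot.2 rfl
  -- fixed points
  have hfix : ∀ v : V, (SemidirectProduct.inl v : V ⋊[φ] H) ∈ Subgroup.centralizer (T : Set (V ⋊[φ] H)) ↔
      ∀ a ∈ (P : Subgroup H), φ a v = v := by
    intro v
    rw [Subgroup.mem_centralizer_iff]
    constructor
    · intro h a ha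
      have h1 := h (SemidirectProduct.inr a) ((hmemT _).2 ⟨a, ha, rfl⟩)
      apply (SemidirectProduct.inl_injective : Function.Injective (SemidirectProduct.inl : V → V ⋊[φ] H))
      rw [← hact, h1]
      group
    · intro h x hx
      obtain ⟨a, ha, rfl⟩ := (hmemT x).1 hx
      have h1 := hact a v
      rw [h a ha] at h1
      exact mul_inv_eq_iff_eq_mul.1 h1
  have hIE : Cfsg.IsElementaryAbelian 2 V' := by
    refine ⟨⟨⟨?_⟩⟩, ?_⟩
    · rintro ⟨_, a, rfl⟩ ⟨_, b, rfl⟩
      apply Subtype.ext
      show SemidirectProduct.inl a * SemidirectProduct.inl b = SemidirectProduct.inl b * SemidirectProduct.inl a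
      rw [← map_mul, ← map_mul, hcommV]
    · rintro _ ⟨a, rfl⟩
      rw [← map_pow, pow_two, hV, map_one]
  have htop : V' ⊔ H' = ⊤ := by
    rw [eq_top_iff]
    intro x _
    rw [← SemidirectProduct.inl_left_mul_inr_right x]
    exact Subgroup.mul_mem_sup ⟨_, rfl⟩ ⟨_, rfl⟩
  have hf : H' ⊓ Subgroup.centralizer (V' : Set (V ⋊[φ] H)) = ⊥ := by
    rw [eq_bot_iff]
    rintro x ⟨⟨h, rfl⟩, hx2⟩
    rw [hcentV h hx2, map_one]
    exact Subgroup.mem_bot.2 rfl
  have hgen' : Cfsg.pElementClosure 2 H' = H' := by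
    apply le_antisymm
    · unfold pElementClosure
      rw [Subgroup.closure_le]
      rintro x ⟨hx, -⟩
      exact hx
    · -- the preimage in `H`
      have h1 : ((pElementClosure 2 H').comap (SemidirectProduct.inr : H →* V ⋊[φ] H)) = ⊤ := by
        apply hgen
        · intro a ha
          rw [Subgroup.mem_comap]
          apply Subgroup.subset_closure
          refine ⟨⟨a, rfl⟩, ?_⟩
          obtain ⟨k, hk⟩ := P.isPGroup' ⟨a, ha⟩
          have h2 : a ^ 2 ^ k = 1 := by
            have := congrArg Subtype.val hk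
            simpa using this
          have h3 : (SemidirectProduct.inr a : V ⋊[φ] H) ^ 2 ^ k = 1 := by rw [← map_pow, h2, map_one]
          obtain ⟨j, -, hj⟩ := (Nat.dvd_prime_pow Nat.prime_two).1 (orderOf_dvd_of_pow_eq_one h3)
          exact ⟨j, hj⟩
        · refine ⟨fun x hx g => ?_⟩
          rw [Subgroup.mem_comap] at hx ⊢
          rw [map_mul, map_mul, map_inv]
          have h2 : ∀ y ∈ pElementClosure 2 H', (SemidirectProduct.inr g : V ⋊[φ] H) * y * (SemidirectProduct.inr g)⁻¹ ∈
              pElementClosure 2 H' := by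
            intro y hy
            unfold pElementClosure at hy
            refine Subgroup.closure_induction (p := fun y _ => (SemidirectProduct.inr g : V ⋊[φ] H) * y *
              (SemidirectProduct.inr g)⁻¹ ∈ pElementClosure 2 H') ?_ ?_ ?_ ?_ hy
            · rintro z ⟨hz1, k, hz2⟩
              apply Subgroup.subset_closure
              refine ⟨H'.mul_mem (H'.mul_mem ⟨g, rfl⟩ hz1) (H'.inv_mem ⟨g, rfl⟩), k, ?_⟩
              rw [← hz2]
              exact MulEquiv.orderOf_eq (MulAut.conj (SemidirectProduct.inr g : V ⋊[φ] H)) z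
            · simp
            · intro a b _ _ ha hb
              have := (pElementClosure 2 H').mul_mem ha hb
              simpa only [mul_assoc, inv_mul_cancel_left] using this
            · intro a _ ha
              have := (pElementClosure 2 H').inv_mem ha
              simpa only [mul_inv_rev, inv_inv, mul_assoc] using this
          exact h2 _ hx
      rintro _ ⟨h, rfl⟩
      have : h ∈ ((pElementClosure 2 H').comap (SemidirectProduct.inr : H →* V ⋊[φ] H)) := by
        rw [h1]; trivial
      exact this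
  -- strongly embedded subgroup
  have hmemN : ∀ h : H, e h ∈ Subgroup.normalizer ((P' : Subgroup H') : Set H') ↔
      h ∈ Subgroup.normalizer ((P : Subgroup H) : Set H) := by
    intro h
    rw [Subgroup.mem_normalizer_iff, Subgroup.mem_normalizer_iff]
    constructor
    · intro h1 a
      have := h1 (e a)
      rw [← map_inv, ← map_mul, ← map_mul, hmemP', hmemP'] at this
      exact this
    · intro h1 y
      obtain ⟨a, rfl⟩ := e.surjective y
      rw [← map_inv, ← map_mul, ← map_mul, hmemP', hmemP']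
      exact h1 a
  have hX : IsStronglyPEmbedded 2 (Subgroup.normalizer ((P' : Subgroup H') : Set H')) := by
    apply strong
    · intro h0
      apply hP1
      rw [eq_bot_iff]
      intro a ha
      have h1 : e a ∈ (P' : Subgroup H') := (hmemP' a).2 ha
      rw [h0, Subgroup.mem_bot] at h1
      rw [Subgroup.mem_bot]
      exact e.injective (by rw [h1, map_one])
    · intro g a ha ha1 hga
      obtain ⟨g, rfl⟩ := e.surjective g
      obtain ⟨a, rfl⟩ := e.surjective a
      rw [hmemP'] at ha
      rw [← map_inv, ← map_mul, ← map_mul, hmemP'] at hga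
      rw [hmemN]
      exact hTI g a ha (by rintro rfl; exact ha1 (map_one e)) hga
    · intro h0
      apply hn
      rw [eq_top_iff]
      intro g _
      rw [← hmemN, h0]
      trivial
  have hcardT : Nat.card T = Nat.card (P : Subgroup H) := by
    rw [hT, Nat.card_congr (Subgroup.equivMapOfInjective _ _ H'.subtype_injective).symm.toEquiv, hP']
    exact Nat.card_congr (Subgroup.equivMapOfInjective _ _ e.injective).symm.toEquiv
  have hFF : Cfsg.IsFFModuleFor 2 V' H' := by
    refine ⟨?_, T, hTH, ?_, ?_, ?_, ?_, ?_⟩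
    · rw [Subgroup.normalizer_eq_top]
      exact le_top
    · rw [Subgroup.normalizer_eq_top]
      exact le_top
    · rw [Subgroup.commutator_le]
      intro x hx y hy
      have : ⁅x, y⁆ = 1 := commutatorElement_eq_one_iff_mul_comm.2 (hTcomm x hx y hy)
      rw [this]
      exact Subgroup.one_mem _
    · intro x hx
      obtain ⟨a, ha, rfl⟩ := (hmemT x).1 hx
      rw [← map_pow, pow_two, hPe a ha, map_one]
      exact Subgroup.one_mem _
    · intro hle
      apply hP1
      rw [eq_bot_iff]
      intro a ha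
      rw [Subgroup.mem_bot]
      exact hcentV a (hle ((hmemT _).2 ⟨a, ha, rfl⟩))
    · rw [hTcent, Subgroup.card_bot, mul_one, hcardT]
      have h1 : Nat.card V' = Nat.card V :=
        Nat.card_congr (MonoidHom.ofInjective SemidirectProduct.inl_injective).symm.toEquiv
      rw [h1]
      refine hoff.trans (Nat.mul_le_mul_left _ ?_)
      apply Nat.card_le_card_of_injective (fun v : {v : V // ∀ a ∈ (P : Subgroup H), φ a v = v} =>
        (⟨SemidirectProduct.inl (v : V), ⟨⟨v, rfl⟩, (hfix v).2 v.2⟩⟩ :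
          ↥(V' ⊓ Subgroup.centralizer (T : Set (V ⋊[φ] H)))))
      intro v w hvw
      apply Subtype.ext
      have := congrArg Subtype.val hvw
      exact SemidirectProduct.inl_injective this
  have hVgen' : ∀ W : Subgroup (V ⋊[φ] H), H' ≤ Subgroup.normalizer (W : Set (V ⋊[φ] H)) →
      (V' ⊓ Subgroup.centralizer ((T : Subgroup (V ⋊[φ] H)) : Set (V ⋊[φ] H))) ≤ W → V' ≤ W := by
    intro W hW1 hW2
    have h1 := hVgen (W.comap (SemidirectProduct.inl : V →* V ⋊[φ] H)) (fun g w hw => by
      rw [Subgroup.mem_comap] at hw ⊢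
      rw [← hact]
      exact (Subgroup.mem_normalizer_iff.1 (hW1 ⟨g, rfl⟩) _).1 hw) (fun v hv => by
      rw [Subgroup.mem_comap]
      exact hW2 ⟨⟨v, rfl⟩, (hfix v).2 hv⟩)
    rintro _ ⟨v, rfl⟩
    have : v ∈ (W.comap (SemidirectProduct.inl : V →* V ⋊[φ] H)) := by rw [h1]; trivial
    exact this
  have hnor : (V' ⊓ Subgroup.centralizer ((H' : Subgroup (V ⋊[φ] H)) : Set (V ⋊[φ] H))).Normal := by
    refine ⟨fun x hx g => ?_⟩
    obtain ⟨⟨v, rfl⟩, hx2⟩ := hx
    have h1 : ∀ h : H, φ h v = v := by
      intro h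
      have h2 := Subgroup.mem_centralizer_iff.1 hx2 (SemidirectProduct.inr h) ⟨h, rfl⟩
      apply (SemidirectProduct.inl_injective : Function.Injective (SemidirectProduct.inl : V → V ⋊[φ] H))
      rw [← hact, h2]
      group
    have h2 : g * SemidirectProduct.inl v * g⁻¹ = SemidirectProduct.inl v := by
      rw [← SemidirectProduct.inl_left_mul_inr_right g]
      have h3 := hact g.right v
      rw [h1] at h3
      calc (SemidirectProduct.inl g.left * SemidirectProduct.inr g.right) * SemidirectProduct.inl v *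
            (SemidirectProduct.inl g.left * SemidirectProduct.inr g.right)⁻¹
          = SemidirectProduct.inl g.left * ((SemidirectProduct.inr g.right) * SemidirectProduct.inl v *
            (SemidirectProduct.inr g.right)⁻¹) * (SemidirectProduct.inl g.left)⁻¹ := by group
        _ = SemidirectProduct.inl v := by
            rw [h3, ← map_inv, ← map_mul, ← map_mul, hcommV g.left v]
            congr 1
            group
    rw [h2]
    exact ⟨⟨v, rfl⟩, hx2⟩
  obtain ⟨F, hF1, hF2, ⟨iso⟩, -, -, ψ, -⟩ := Cfsg.Agent.S2789.result (p := 2) V' H' hIE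
    (by rw [Subgroup.normalizer_eq_top]; exact le_top) hf htop hgen' _ hX P' T hT hVgen' hFF
  refine ⟨F, hF1, hF2, fun x => ?_, ⟨e.trans iso⟩⟩
  obtain ⟨v, hv⟩ := ψ.surjective (fun _ => x)
  have h1 : v + v = 0 := by
    obtain ⟨v', rfl⟩ := Additive.ofMul.surjective v
    obtain ⟨_, _, ⟨u, rfl⟩, rfl⟩ := v'
    apply Additive.toMul.injective
    apply Subtype.ext
    show QuotientGroup.mk' _ _ * QuotientGroup.mk' _ _ = 1
    rw [← map_mul, ← map_mul, hV, map_one, map_one]
  have h2 := congrArg ψ h1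
  rw [map_add, hv, map_zero] at h2
  exact congrFun h2 0

end Cfsg.Agent.H476.HM8
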