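import Cfsg.Agent.H476.HM8.Nor

/-!
# S5175, T8: `E` is normal in `G` (group part, conclusion)
-/

set_option autoImplicit false

namespace Cfsg.Agent.H476.HM8

open Cfsg Cfsg.Agent.H802 Matrix

local notation "SL2" => Matrix.SpecialLinearGroup (Fin 2)

variable {V K : Type*} [Group V] [Field K]

namespace Cfg

variable {c : Crd V K} {G T E A : Subgroup (MulAut V)} {ρ : E ≃* SL2 K} (h : Cfg c G T E A ρ)

include h

/-- a subgroup of `MulAut V` normalized by `E` and containing `A` contains `E` -/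
theorem E_le {N : Subgroup (MulAut V)} (hA : A ≤ N) (hN : ∀ e ∈ E, ∀ n ∈ N, e * n * e⁻¹ ∈ N) : E ≤ N := by
  let i : SL2 K →* MulAut V := E.subtype.comp ρ.symm.toMonoidHom
  have hi : ∀ M, i M = ρ.symm M := fun M => rfl
  have h1 : ∀ s, um s ∈ N.comap i := fun s => hA ((h.hA _).2 ⟨s, rfl⟩)
  have h2 : N.comap i = ⊤ := by
    apply eq_top_of_um _ h1
    intro s
    have h3 : lm s = wm * um (-s) * wm⁻¹ := by rw [wm_conj, neg_neg]
    rw [h3, Subgroup.mem_comap, map_mul, map_mul, map_inv]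
    exact hN _ (ρ.symm wm).2 _ (h1 (-s))
  intro e he
  have h3 : ρ ⟨e, he⟩ ∈ N.comap i := by rw [h2]; trivial
  rw [Subgroup.mem_comap, hi, MulEquiv.symm_apply_apply] at h3
  exact h3

theorem card_A : Nat.card A = Nat.card K := by
  symm
  apply Nat.card_congr
  refine Equiv.ofBijective (fun s : K => (⟨(ρ.symm (um s) : E), (h.hA _).2 ⟨s, rfl⟩⟩ : A)) ⟨?_, ?_⟩
  · intro s t hst
    have h1 := congrArg Subtype.val hst
    have h2 : ρ.symm (um s) = ρ.symm (um t) := Subtype.ext h1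
    exact um_injective (ρ.symm.injective h2)
  · rintro ⟨a, ha⟩
    obtain ⟨s, hs⟩ := (h.hA a).1 ha
    exact ⟨s, Subtype.ext hs⟩

omit h in
theorem card_V (c : Crd V K) [Finite V] : Nat.card V = Nat.card K * Nat.card {v : V // c.Y v = 0} := by
  let f : V →* Multiplicative K :=
    { toFun := fun v => Multiplicative.ofAdd (c.Y v)
      map_one' := by rw [c.Y_one]; rfl
      map_mul' := fun v w => by rw [c.hY]; rfl }
  have hf : Function.Surjective f := by
    intro y
    obtain ⟨v, -, hv⟩ := c.surj 0 (Multiplicative.toAdd y)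
    exact ⟨v, congrArg Multiplicative.ofAdd hv⟩
  have h1 := Subgroup.card_mul_index f.ker
  rw [Subgroup.index_ker, MonoidHom.range_eq_top.2 hf, Subgroup.card_top] at h1
  rw [← h1, mul_comm]
  congr 1

theorem normal [Finite V] [Fintype K] [CharP K 2] (hq : 4 ≤ Fintype.card K)
    {B : Subgroup (MulAut V)} (hBT : B ≤ T)
    (hBc : ∀ a ∈ B, ∀ b ∈ B, a * b = b * a) (hB1 : B ≠ ⊥)
    (hBs : ∀ g ∈ G, ∀ b ∈ B, g * b * g⁻¹ ∈ T → g * b * g⁻¹ ∈ B) :
    ∀ g ∈ G, ∀ e ∈ E, g * e * g⁻¹ ∈ E := by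
  classical
  have hBA := h.B_eq hBT hBc hB1 hBs
  subst hBA
  -- the normal closure of `A` in `G`
  set G2 : Subgroup (MulAut V) := Subgroup.closure {x | ∃ g ∈ G, ∃ a ∈ B, x = g * a * g⁻¹} with hG2
  have hAG2 : B ≤ G2 := fun a ha => Subgroup.subset_closure ⟨1, G.one_mem, a, ha, by simp⟩
  have hG2n : ∀ g ∈ G, ∀ x ∈ G2, g * x * g⁻¹ ∈ G2 := by
    intro g hg x hx
    refine Subgroup.closure_induction (p := fun x _ => g * x * g⁻¹ ∈ G2) ?_ ?_ ?_ ?_ hx
    · rintro _ ⟨k, hk, a, ha, rfl⟩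
      apply Subgroup.subset_closure
      exact ⟨g * k, G.mul_mem hg hk, a, ha, by group⟩
    · simp
    · intro a b _ _ ha hb
      have := G2.mul_mem ha hb
      simpa only [mul_assoc, inv_mul_cancel_left] using this
    · intro a _ ha
      have := G2.inv_mem ha
      simpa only [_root_.mul_inv_rev, inv_inv, mul_assoc] using this
  have hG2G : G2 ≤ G := by
    rw [hG2, Subgroup.closure_le]
    rintro _ ⟨g, hg, a, ha, rfl⟩
    exact G.mul_mem (G.mul_mem hg (h.TG (h.AT ha))) (G.inv_mem hg)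
  have hEG2 : E ≤ G2 := h.E_le hAG2 (fun e he n hn => hG2n e (h.EG he) n hn)
  -- `G2 ≤ O²(G)`
  have hres := h.A_le_res hq
  have hG2res : G2 ≤ (pResidual 2 G).map G.subtype := by
    rw [hG2, Subgroup.closure_le]
    rintro _ ⟨g, hg, a, ha, rfl⟩
    obtain ⟨a', ha', rfl⟩ := hres ha
    have hn : (pResidual 2 G).Normal := pRes_normal G
    exact ⟨⟨g, hg⟩ * a' * ⟨g, hg⟩⁻¹, hn.conj_mem _ ha' _, rfl⟩
  have hTG2 : T ⊓ G2 = B := by
    apply le_antisymm
    · exact le_trans (inf_le_inf_left _ hG2res) (h.inf_le hBs)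
    · exact le_inf h.AT hAG2
  have hsyl : SylIn 2 B G2 := by
    have := h.syl.inf_normal hG2G hG2n
    rwa [hTG2] at this
  obtain ⟨P, hP⟩ := hsyl.exists_sylow
  have hmemP : ∀ x : G2, x ∈ (P : Subgroup G2) ↔ (x : MulAut V) ∈ B := fun x => by
    rw [hP, Subgroup.mem_subgroupOf]
  have hconjeq : ∀ g : G2, (∀ b ∈ B, (g : MulAut V) * b * (g : MulAut V)⁻¹ ∈ B) →
      g ∈ Subgroup.normalizer ((P : Subgroup G2) : Set G2) := by
    intro g hg
    have h5 : B.map (MulAut.conj (g : MulAut V)).toMonoidHom = B := by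
      apply Subgroup.eq_of_le_of_card_ge
      · rintro _ ⟨b, hb, rfl⟩
        exact hg b hb
      · rw [card_map_conj]
    rw [Subgroup.mem_normalizer_iff]
    intro x
    rw [hmemP, hmemP]
    refine ⟨fun hx => hg _ hx, fun hx => ?_⟩
    have hx' : (g : MulAut V) * x * (g : MulAut V)⁻¹ ∈ B := hx
    rw [← h5] at hx'
    obtain ⟨b, hb, hb'⟩ := hx'
    have : (g : MulAut V) * b * (g : MulAut V)⁻¹ = g * x * (g : MulAut V)⁻¹ := hb'
    rw [← mul_left_cancel (mul_right_cancel this)]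
    exact hb
  have hcard1 : 1 < Nat.card B := by
    rw [h.card_A, Nat.card_eq_fintype_card]
    omega
  obtain ⟨F, hF1, hF2, hF3, ⟨iso⟩⟩ := emb (V := V) (H := G2) G2.subtype G2.subtype_injective h.hV P
    (fun a ha => Subtype.ext (h.A_sq ((hmemP a).1 ha)))
    (fun h0 => by
      apply hB1
      rw [eq_bot_iff]
      intro a ha
      have : (⟨a, hAG2 ha⟩ : G2) ∈ (P : Subgroup G2) := (hmemP _).2 ha
      rw [h0, Subgroup.mem_bot] at this
      exact congrArg Subtype.val this)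
    (fun g a ha ha1 hga => hconjeq g (h.TI hBs (hG2G g.2) ((hmemP a).1 ha)
      (fun h0 => ha1 (Subtype.ext h0)) ((hmemP _).1 hga)))
    (fun h0 => by
      -- the Weyl element does not normalize `A`
      have hw : (ρ.symm wm : MulAut V) ∈ G2 := hEG2 (ρ.symm wm).2
      have h1 : (⟨_, hw⟩ : G2) ∈ Subgroup.normalizer ((P : Subgroup G2) : Set G2) := by rw [h0]; trivial
      have h2 : (ρ.symm (um 1) : MulAut V) ∈ B := (h.hA _).2 ⟨1, rfl⟩
      have h3 := (Subgroup.mem_normalizer_iff.1 h1 ⟨_, hAG2 h2⟩).1 ((hmemP _).2 h2)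
      have h4 : (ρ.symm (lm (-1)) : MulAut V) ∈ B := by
        have h5 := (hmemP _).1 h3
        rw [← wm_conj, map_mul, map_mul, map_inv]
        exact h5
      obtain ⟨s, hs⟩ := (h.hA _).1 h4
      have h5 : ρ.symm (um s) = ρ.symm (lm (-1)) := Subtype.ext hs
      have h6 := ρ.symm.injective h5
      have h7 := congrArg (fun M : SL2 K => (M : Matrix (Fin 2) (Fin 2) K) 1 0) h6
      simp [coe_um, coe_lm] at h7)
    (fun N hN hNn => by
      have h1 : G2 ≤ N.map G2.subtype := by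
        conv_lhs => rw [hG2]
        rw [Subgroup.closure_le]
        rintro _ ⟨g, hg, a, ha, rfl⟩
        -- conjugate of `A` inside `G2`
        have h2 : B.map (MulAut.conj g).toMonoidHom ≤ G2 := by
          rintro _ ⟨b, hb, rfl⟩
          exact hG2n g hg b (hAG2 hb)
        have h3 : IsPGroup 2 (B.map (MulAut.conj g).toMonoidHom) := hsyl.isPGroup.map _
        obtain ⟨k, hk, hkB⟩ := hsyl.exists_conj h2 h3
        have h4 := hkB _ ⟨a, ha, rfl⟩
        have h5 : (⟨_, hAG2 h4⟩ : G2) ∈ N := hN ((hmemP _).2 h4)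
        have h6 := hNn.conj_mem _ h5 (⟨k, hk⟩⁻¹ : G2)
        refine ⟨_, h6, ?_⟩
        show k⁻¹ * (k * (MulAut.conj g a) * k⁻¹) * k⁻¹⁻¹ = g * a * g⁻¹
        rw [MulAut.conj_apply]
        group
      rw [eq_top_iff]
      intro x _
      obtain ⟨y, hy, hy'⟩ := h1 x.2
      rw [← Subtype.ext hy']
      exact hy)
    (fun W hW hW2 => by
      have hZW : ∀ v, c.Y v = 0 → v ∈ W := fun v hv =>
        hW2 v (fun a ha => h.Z v hv _ ((hmemP a).1 ha))
      rw [eq_top_iff]
      intro v _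
      obtain ⟨z, hz1, hz2⟩ := c.surj (- c.Y v) 0
      have h1 : (ρ.symm wm : MulAut V) z ∈ W := hW ⟨_, hEG2 (ρ.symm wm).2⟩ z (hZW z hz2)
      have h2 := (h.acts wm z).2
      have e3 : (wm : SL2 K) 1 0 = -1 := rfl
      have e4 : (wm : SL2 K) 1 1 = 0 := rfl
      rw [e3, e4, hz1, hz2] at h2
      have h3 : v * ((ρ.symm wm : MulAut V) z)⁻¹ ∈ W := by
        apply hZW
        rw [c.hY, c.Y_inv, h2]
        ring
      have h4 := W.mul_mem h3 h1
      rwa [inv_mul_cancel_right] at h4)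
    (by
      rw [card_V c]
      have h1 : Nat.card (P : Subgroup G2) = Nat.card B := by
        rw [hP]
        exact card_subgroupOf_of_le hAG2
      rw [h1, h.card_A]
      apply Nat.mul_le_mul_left
      apply Nat.card_le_card_of_injective (fun v : {v : V // c.Y v = 0} =>
        (⟨v, fun a ha => h.Z v v.2 _ ((hmemP a).1 ha)⟩ : {v : V // ∀ a ∈ (P : Subgroup G2), G2.subtype a v = v}))
      intro v w hvw
      have := congrArg (fun x : {v : V // ∀ a ∈ (P : Subgroup G2), G2.subtype a v = v} => (x : V)) hvw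
      exact Subtype.ext this)
  -- compare orders
  have hc1 : Nat.card G2 = Nat.card (SL2 F) := Nat.card_congr iso.toEquiv
  have hc2 : Fintype.card F = Fintype.card K := by
    rw [← two_part F hF3, ← hc1, ← hsyl.2, h.card_A, Nat.card_eq_fintype_card]
  have hc3 : Nat.card E = Nat.card G2 := by
    rw [hc1, card_SL2, hc2, ← card_SL2]
    exact Nat.card_congr ρ.toEquiv
  have hEeq : E = G2 := Subgroup.eq_of_le_of_card_ge hEG2 hc3.ge
  intro g hg e he
  rw [hEeq] at he ⊢
  exact hG2n g hg e he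

end Cfg

end Cfsg.Agent.H476.HM8
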