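import Cfsg.Agent.H476.HM8.Cfg
import Cfsg.Agent.H476.HM8.Emb
import Cfsg.Agent.S0242

/-!
# S5175, T8: `E` is normal in `G`
-/

set_option autoImplicit false

namespace Cfsg.Agent.H476.HM8

open Cfsg Cfsg.Agent.H802 Matrix

variable {V K : Type*} [Group V] [Field K]

local notation "SL2" => Matrix.SpecialLinearGroup (Fin 2)

instance : Fact (Nat.Prime 2) := ⟨Nat.prime_two⟩

namespace Cfg

variable {c : Crd V K} {G T E A : Subgroup (MulAut V)} {ρ : E ≃* SL2 K} (h : Cfg c G T E A ρ)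

omit [Group V] in
theorem exists_sq [Finite K] [CharP K 2] (x : K) : ∃ l, l ^ 2 = x := by
  obtain ⟨l, hl⟩ := FiniteField.isSquare_of_char_two (F := K) (ringChar.eq_iff.2 inferInstance) x
  exact ⟨l, by rw [hl, sq]⟩

include h

/-- a strongly closed abelian subgroup equals `A` -/
theorem B_eq [Finite K] [CharP K 2] {B : Subgroup (MulAut V)} (hBT : B ≤ T)
    (hBc : ∀ a ∈ B, ∀ b ∈ B, a * b = b * a) (hB1 : B ≠ ⊥)
    (hBs : ∀ g ∈ G, ∀ b ∈ B, g * b * g⁻¹ ∈ T → g * b * g⁻¹ ∈ B) : B = A := by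
  -- `A ∩ B ≠ 1`
  have hTB : ∀ t ∈ T, ∀ b ∈ B, t * b * t⁻¹ ∈ B := fun t ht b hb =>
    hBs t (h.TG ht) b hb (T.mul_mem (T.mul_mem ht (hBT hb)) (T.inv_mem ht))
  have h1 : ∃ b ∈ B, b ∈ A ∧ b ≠ 1 := by
    by_contra hcon
    push Not at hcon
    apply hB1
    rw [eq_bot_iff]
    intro b hb
    rw [Subgroup.mem_bot]
    apply hcon b hb
    apply h.cent (hBT hb)
    intro a ha
    have h2 : b * a * b⁻¹ * a⁻¹ ∈ A := A.mul_mem (h.TA b (hBT hb) a ha) (A.inv_mem ha)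
    have h3 : b * a * b⁻¹ * a⁻¹ ∈ B := by
      have := B.mul_mem hb (hTB a (h.AT ha) _ (B.inv_mem hb))
      simpa only [mul_assoc] using this
    have h4 := hcon _ h3 h2
    rw [mul_inv_eq_one, mul_inv_eq_iff_eq_mul] at h4
    exact h4
  obtain ⟨b, hbB, hbA, hb1⟩ := h1
  obtain ⟨s, hs⟩ := (h.hA b).1 hbA
  have hs0 : s ≠ 0 := by
    rintro rfl
    apply hb1
    rw [← hs, um_zero, map_one]
    rfl
  have hAB : A ≤ B := by
    intro a ha
    obtain ⟨r, hr⟩ := (h.hA a).1 ha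
    by_cases hr0 : r = 0
    · rw [← hr, hr0, um_zero, map_one]
      exact B.one_mem
    · obtain ⟨l, hl⟩ := exists_sq (r / s)
      have hl0 : l ≠ 0 := by
        rintro rfl
        have : r / s ≠ 0 := div_ne_zero hr0 hs0
        rw [← hl] at this
        simp at this
      have h2 : (ρ.symm (dm l hl0) : MulAut V) * b * (ρ.symm (dm l hl0) : MulAut V)⁻¹ = a := by
        rw [← hs, ← hr, ← Subgroup.coe_inv, ← Subgroup.coe_mul, ← Subgroup.coe_mul, ← map_inv, ← map_mul,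
          ← map_mul, dm_conj, hl, div_mul_cancel₀ _ hs0]
      have h3 := hBs _ (h.EG (ρ.symm (dm l hl0)).2) b hbB (by rw [h2]; exact h.AT ha)
      rwa [h2] at h3
  apply le_antisymm ?_ hAB
  intro b hb
  exact h.cent (hBT hb) (fun a ha => hBc b hb a (hAB ha))

theorem A_sq [CharP K 2] {a : MulAut V} (ha : a ∈ A) : a * a = 1 := by
  obtain ⟨s, rfl⟩ := (h.hA a).1 ha
  rw [← Subgroup.coe_mul, ← map_mul, um_mul, CharTwo.add_self_eq_zero, um_zero, map_one]
  rfl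

theorem hVcomm (a b : V) : a * b = b * a := by
  have h1 := h.hV (a * b)
  have h2 := h.hV a
  have h3 := h.hV b
  have : a * b = (a * b)⁻¹ := (inv_eq_of_mul_eq_one_left h1).symm
  rw [this, _root_.mul_inv_rev, inv_eq_of_mul_eq_one_left h2, inv_eq_of_mul_eq_one_left h3]

/-- a conjugate of `A` meeting `A` equals `A` -/
theorem TI [Finite V] [CharP K 2] (hst : ∀ g ∈ G, ∀ a ∈ A, g * a * g⁻¹ ∈ T → g * a * g⁻¹ ∈ A)
    {g : MulAut V} (hg : g ∈ G) {a : MulAut V} (ha : a ∈ A) (ha1 : a ≠ 1) (hga : g * a * g⁻¹ ∈ A) :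
    ∀ b ∈ A, g * b * g⁻¹ ∈ A := by
  -- `g` preserves `Z`
  have hZ1 : ∀ v, c.Y v = 0 → c.Y (g v) = 0 := by
    intro v hv
    apply h.Z_of_fix hga
    · intro h0
      apply ha1
      rw [mul_inv_eq_one] at h0
      exact mul_left_cancel (a := g) (by rw [h0, mul_one])
    · rw [MulAut.mul_apply, MulAut.mul_apply, MulAut.inv_apply_self, h.Z v hv a ha]
  have hZ2 : ∀ v, c.Y (g v) = 0 → c.Y v = 0 := by
    intro v hv
    apply h.Z_of_fix ha ha1
    have h2 := h.Z _ hv _ hga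
    rw [MulAut.mul_apply, MulAut.mul_apply, MulAut.inv_apply_self] at h2
    exact g.injective h2
  -- the group `U` acting trivially on `Z` and `V / Z`
  let U : Subgroup (MulAut V) :=
    { carrier := {u | u ∈ G ∧ ∀ v, c.Y (u v) = c.Y v ∧ (c.Y v = 0 → u v = v)}
      one_mem' := ⟨G.one_mem, fun v => ⟨rfl, fun _ => rfl⟩⟩
      mul_mem' := by
        rintro x y ⟨hx, hx'⟩ ⟨hy, hy'⟩
        refine ⟨G.mul_mem hx hy, fun v => ⟨?_, fun hv => ?_⟩⟩
        · rw [MulAut.mul_apply, (hx' _).1, (hy' _).1]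
        · rw [MulAut.mul_apply, (hy' _).2 hv, (hx' _).2 hv]
      inv_mem' := by
        rintro x ⟨hx, hx'⟩
        refine ⟨G.inv_mem hx, fun v => ?_⟩
        have h1 : c.Y (x⁻¹ v) = c.Y v := by
          have := (hx' (x⁻¹ v)).1
          rw [MulAut.apply_inv_self] at this
          exact this.symm
        refine ⟨h1, fun hv => ?_⟩
        have h2 := (hx' (x⁻¹ v)).2 (by rw [h1, hv])
        rw [MulAut.apply_inv_self] at h2
        exact h2.symm }
  have hUsq : ∀ u ∈ U, u * u = 1 := by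
    rintro u ⟨hu, hu'⟩
    apply MulEquiv.ext
    intro v
    rw [MulAut.mul_apply, MulAut.one_apply]
    have h1 : c.Y (v⁻¹ * u v) = 0 := by
      rw [c.hY, c.Y_inv, (hu' v).1]
      ring
    have h2 := (hu' _).2 h1
    rw [map_mul, map_inv] at h2
    -- (u v)⁻¹ * u (u v) = v⁻¹ * u v
    have h3 : u (u v) = u v * (v⁻¹ * u v) := by
      rw [← h2, mul_inv_cancel_left]
    rw [h3, h.hVcomm v⁻¹ (u v), ← mul_assoc, h.hV, one_mul]
    exact inv_eq_of_mul_eq_one_left (h.hV v)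
  have hUp : IsPGroup 2 U := by
    rintro ⟨u, hu⟩
    refine ⟨1, Subtype.ext ?_⟩
    show u ^ 2 ^ 1 = 1
    rw [pow_one, pow_two, hUsq u hu]
  have hUG : U ≤ G := fun u hu => hu.1
  obtain ⟨k, hk, hkU⟩ := h.syl.exists_conj hUG hUp
  have hAU : A ≤ U := by
    intro a ha
    refine ⟨h.TG (h.AT ha), fun v => ⟨?_, fun hv => h.Z v hv a ha⟩⟩
    obtain ⟨s, hs⟩ := h.exists_isU a ha
    exact (hs v).2
  have hAU' : ∀ b ∈ A, g * b * g⁻¹ ∈ U := by
    intro b hb
    refine ⟨G.mul_mem (G.mul_mem hg (h.TG (h.AT hb))) (G.inv_mem hg), fun v => ?_⟩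
    have hw : g (g⁻¹ v) = v := MulAut.apply_inv_self _ _ _
    constructor
    · -- `b w = w z`, `z ∈ Z`
      rw [MulAut.mul_apply, MulAut.mul_apply]
      have h1 : c.Y ((g⁻¹ v)⁻¹ * b (g⁻¹ v)) = 0 := by
        obtain ⟨s, hs⟩ := h.exists_isU b hb
        rw [c.hY, c.Y_inv, (hs _).2]
        ring
      have h2 := hZ1 _ h1
      rw [map_mul, map_inv, hw, c.hY, c.Y_inv] at h2
      linear_combination h2
    · intro hv
      have h1 : c.Y (g⁻¹ v) = 0 := by
        apply hZ2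
        rw [hw, hv]
      rw [MulAut.mul_apply, MulAut.mul_apply, h.Z _ h1 b hb, hw]
  -- conjugate into `T`
  have h3 : ∀ b ∈ A, k * b * k⁻¹ ∈ A := fun b hb => hst k hk b hb (hkU b (hAU hb))
  have h4 : ∀ b ∈ A, (k * g) * b * (k * g)⁻¹ ∈ A := by
    intro b hb
    apply hst _ (G.mul_mem hk hg) b hb
    have := hkU _ (hAU' b hb)
    have e : (k * g) * b * (k * g)⁻¹ = k * (g * b * g⁻¹) * k⁻¹ := by group
    rw [e]
    exact this
  -- finite: `k A k⁻¹ = A`
  have h5 : A.map (MulAut.conj k).toMonoidHom = A := by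
    apply Subgroup.eq_of_le_of_card_ge
    · rintro _ ⟨b, hb, rfl⟩
      exact h3 b hb
    · rw [card_map_conj]
  intro b hb
  have h6 := h4 b hb
  rw [← h5] at h6
  obtain ⟨b', hb', hb''⟩ := h6
  have e1 : k * b' * k⁻¹ = (k * g) * b * (k * g)⁻¹ := hb''
  have e2 : b' = g * b * g⁻¹ := by
    have : k * b' * k⁻¹ = k * (g * b * g⁻¹) * k⁻¹ := by rw [e1]; group
    exact mul_left_cancel (mul_right_cancel this)
  rw [← e2]
  exact hb'

end Cfg

end Cfsg.Agent.H476.HM8
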