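import Cfsg.Agent.H476.HM8.Grp

/-!
# S5175, T8: `E` is normal in `G` (group part)
-/

set_option autoImplicit false

namespace Cfsg.Agent.H476.HM8

open Cfsg Cfsg.Agent.H802 Matrix

local notation "SL2" => Matrix.SpecialLinearGroup (Fin 2)

/-- the automorphism group of a finite field is cyclic -/
theorem isCyclic_ringAut (K : Type*) [Field K] [Finite K] [CharP K 2] : IsCyclic (RingAut K) := by
  letI : Algebra (ZMod 2) K := ZMod.algebra K 2
  have hc : IsCyclic (K ≃ₐ[ZMod 2] K) := inferInstance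
  let f : RingAut K →* (K ≃ₐ[ZMod 2] K) :=
    { toFun := fun σ => AlgEquiv.ofRingEquiv (f := σ) (fun x => by
        have : ((σ : K →+* K).comp (algebraMap (ZMod 2) K)) = algebraMap (ZMod 2) K := Subsingleton.elim _ _
        exact congrArg (fun g : ZMod 2 →+* K => g x) this)
      map_one' := by ext; rfl
      map_mul' := fun a b => by ext; rfl }
  apply isCyclic_of_injective f
  intro a b hab
  apply RingEquiv.ext
  intro x
  exact congrArg (fun g : K ≃ₐ[ZMod 2] K => g x) hab

theorem card_SL2 (F : Type*) [Field F] [Fintype F] : Nat.card (SL2 F) =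
    Fintype.card F * (Fintype.card F ^ 2 - 1) := by
  have h1 := Cfsg.Agent.S0242.result (F := F) rfl 2 (by norm_num)
  have hq : 2 ≤ Fintype.card F := Fintype.one_lt_card
  rw [Fin.prod_univ_two] at h1
  simp only [Fin.val_zero, Fin.val_one, pow_zero, pow_one] at h1
  have h2 : (Fintype.card F - 1) * Nat.card (SL2 F) = (Fintype.card F - 1) * (Fintype.card F * (Fintype.card F ^ 2 - 1)) := by
    rw [h1]
    have : Fintype.card F ^ 2 - Fintype.card F = (Fintype.card F - 1) * Fintype.card F := by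
      rw [Nat.sub_mul, one_mul, sq]
    rw [this]; ring
  exact Nat.eq_of_mul_eq_mul_left (by omega) h2

/-- the 2-part of `|SL₂(F)|` -/
theorem two_part (F : Type*) [Field F] [Fintype F] (h2 : ∀ x : F, x + x = 0) :
    2 ^ (Nat.card (SL2 F)).factorization 2 = Fintype.card F := by
  have hchar : CharP F 2 := by
    apply CharTwo.of_one_ne_zero_of_two_eq_zero one_ne_zero
    have := h2 1
    rw [← this]
    norm_num
  obtain ⟨n, hp, hn⟩ := FiniteField.card F 2
  have hn' : Fintype.card F = 2 ^ (n : ℕ) := hn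
  have hq : 2 ≤ Fintype.card F := Fintype.one_lt_card
  rw [card_SL2, hn']
  have h0 : (2 ^ (n : ℕ)) ^ 2 - 1 ≠ 0 := by
    rw [← hn']
    have : 2 ^ 2 ≤ Fintype.card F ^ 2 := Nat.pow_le_pow_left hq 2
    omega
  rw [Nat.factorization_mul (by positivity) h0]
  have h3 : ((2 ^ (n : ℕ)) ^ 2 - 1).factorization 2 = 0 := by
    apply Nat.factorization_eq_zero_of_not_dvd
    have h4 : 2 ∣ (2 ^ (n : ℕ)) ^ 2 := (dvd_pow_self 2 n.ne_zero).trans (dvd_pow_self _ (by norm_num))
    have h5 : 0 < (2 ^ (n : ℕ)) ^ 2 := by positivity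
    omega
  rw [Finsupp.add_apply, h3, add_zero, Nat.Prime.factorization_pow Nat.prime_two]
  simp

theorem pRes_normal (G : Type*) [Group G] : (pResidual 2 G).Normal := by
  refine ⟨fun x hx g => ?_⟩
  have hx' := hx
  unfold pResidual at hx'
  refine Subgroup.closure_induction (p := fun x _ => g * x * g⁻¹ ∈ pResidual 2 G) ?_ ?_ ?_ ?_ hx'
  · intro x hx
    apply Subgroup.subset_closure
    show Nat.Coprime (orderOf (g * x * g⁻¹)) 2
    have : orderOf (g * x * g⁻¹) = orderOf x := MulEquiv.orderOf_eq (MulAut.conj g) x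
    rw [this]
    exact hx
  · simp
  · intro a b _ _ ha hb
    have := (pResidual 2 G).mul_mem ha hb
    simpa only [mul_assoc, inv_mul_cancel_left] using this
  · intro a _ ha
    have := (pResidual 2 G).inv_mem ha
    simpa only [_root_.mul_inv_rev, inv_inv, mul_assoc] using this

variable {V K : Type*} [Group V] [Field K]

/-- diagonal elements as a homomorphism -/
def dh : Kˣ →* SL2 K where
  toFun u := dm (u : K) u.ne_zero
  map_one' := by
    apply Subtype.ext
    rw [coe_dm, Matrix.SpecialLinearGroup.coe_one, Matrix.one_fin_two]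
    simp
  map_mul' u v := by
    apply Subtype.ext
    rw [Matrix.SpecialLinearGroup.coe_mul, coe_dm, coe_dm, coe_dm, Matrix.mul_fin_two]
    simp [mul_comm]

namespace Cfg

variable {c : Crd V K} {G T E A : Subgroup (MulAut V)} {ρ : E ≃* SL2 K} (h : Cfg c G T E A ρ)

include h

/-- `T ∩ O²(G) ≤ A` -/
theorem inf_le [Finite V] [Finite K] [CharP K 2]
    (hst : ∀ g ∈ G, ∀ a ∈ A, g * a * g⁻¹ ∈ T → g * a * g⁻¹ ∈ A) :
    T ⊓ (pResidual 2 G).map G.subtype ≤ A := by
  haveI := isCyclic_ringAut K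
  obtain ⟨f, hf, -⟩ := h.exists_hom
  obtain ⟨S, hS⟩ := h.syl.exists_sylow
  have hST : ∀ x : ↥(S : Subgroup G), ((x : G) : MulAut V) ∈ T := by
    intro x
    exact Subgroup.mem_subgroupOf.1 ((SetLike.ext_iff.1 hS _).1 x.2)
  let j : ↥(S : Subgroup G) →* T :=
    { toFun := fun x => ⟨((x : G) : MulAut V), hST x⟩
      map_one' := rfl
      map_mul' := fun _ _ => rfl }
  have h1 := inf_pResidual_le S (A.subgroupOf G) (fun g a ha hga => by
    rw [Subgroup.mem_subgroupOf] at ha ⊢
    have hga' : g * a * g⁻¹ ∈ (S : Subgroup G) := hga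
    rw [hS, Subgroup.mem_subgroupOf] at hga'
    exact hst g g.2 a ha hga') (f.comp j) (fun x => by
    rw [MonoidHom.comp_apply, hf, Subgroup.mem_subgroupOf]
    exact Iff.rfl)
  rintro x ⟨hxT, ⟨g, hg, rfl⟩⟩
  have h2 : g ∈ (S : Subgroup G) ⊓ pResidual 2 G := by
    refine ⟨?_, hg⟩
    exact (SetLike.ext_iff.1 hS _).2 (Subgroup.mem_subgroupOf.2 hxT)
  have h3 := h1 h2
  rw [Subgroup.mem_subgroupOf] at h3
  exact h3

theorem A_le_res [Fintype K] [CharP K 2] (hq : 4 ≤ Fintype.card K) :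
    A ≤ (pResidual 2 G).map G.subtype := by
  classical
  intro a ha
  obtain ⟨r, hr⟩ := (h.hA a).1 ha
  -- `l ≠ 0, 1`
  obtain ⟨l, hl0, hl1⟩ : ∃ l : K, l ≠ 0 ∧ l ≠ 1 := by
    by_contra hcon
    push Not at hcon
    have : (Finset.univ : Finset K) ⊆ {0, 1} := by
      intro x _
      by_cases hx : x = 0
      · simp [hx]
      · simp [hcon x hx]
    have h1 := Finset.card_le_card this
    rw [Finset.card_univ] at h1
    have h2 : ({0, 1} : Finset K).card ≤ 2 := Finset.card_le_two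
    omega
  have hl2 : l ^ 2 - 1 ≠ 0 := by
    intro h0
    have : (l - 1) ^ 2 = 0 := by
      have h1 : (2 : K) = 0 := CharTwo.two_eq_zero
      linear_combination h0 - (l - 1) * h1
    exact hl1 (sub_eq_zero.1 (pow_eq_zero_iff (two_ne_zero) |>.1 this))
  set u : Kˣ := Units.mk0 l hl0 with hu
  have hodd : ∀ w : Kˣ, Nat.Coprime (orderOf w) 2 := by
    intro w
    have h1 : orderOf w ∣ Fintype.card Kˣ := orderOf_dvd_card
    rw [Fintype.card_units] at h1
    obtain ⟨n, hp, hn⟩ := FiniteField.card K 2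
    have hn' : Fintype.card K = 2 ^ (n : ℕ) := hn
    have h2 : Nat.Coprime (Fintype.card K - 1) 2 := by
      rw [Nat.coprime_two_right, hn']
      have h4 : 2 ∣ 2 ^ (n : ℕ) := dvd_pow_self 2 n.ne_zero
      have h5 : 0 < 2 ^ (n : ℕ) := by positivity
      rw [Nat.odd_iff]
      omega
    exact Nat.Coprime.coprime_dvd_left h1 h2
  let i : SL2 K →* G := (Subgroup.inclusion h.EG).comp ρ.symm.toMonoidHom
  have hi : ∀ M, ((i M : G) : MulAut V) = ρ.symm M := fun M => rfl
  have hres : ∀ w : Kˣ, i (dh w) ∈ pResidual 2 G := by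
    intro w
    apply Subgroup.subset_closure
    show Nat.Coprime (orderOf (i (dh w))) 2
    exact Nat.Coprime.coprime_dvd_left ((orderOf_map_dvd (i.comp dh) w)) (hodd w)
  have hnorm : (pResidual 2 G).Normal := pRes_normal G
  have h5 : um r = (dh u : SL2 K) * (um (r / (l ^ 2 - 1)) * (dh u)⁻¹ * (um (r / (l ^ 2 - 1)))⁻¹) := by
    have h6 : (dh u : SL2 K) * (um (r / (l ^ 2 - 1))) * (dh u)⁻¹ = um (l ^ 2 * (r / (l ^ 2 - 1))) :=
      dm_conj l hl0 _
    have h7 : (dh u : SL2 K) * (um (r / (l ^ 2 - 1)) * (dh u)⁻¹ * (um (r / (l ^ 2 - 1)))⁻¹) =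
      ((dh u : SL2 K) * (um (r / (l ^ 2 - 1))) * (dh u)⁻¹) * (um (r / (l ^ 2 - 1)))⁻¹ := by group
    rw [h7, h6, um_inv, um_mul]
    congr 1
    field_simp
    ring
  refine ⟨i (um r), ?_, ?_⟩
  · rw [h5, map_mul, map_mul, map_mul, map_inv]
    refine (pResidual 2 G).mul_mem (hres u) ?_
    have := hnorm.conj_mem _ ((pResidual 2 G).inv_mem (hres u)) (i (um (r / (l ^ 2 - 1))))
    rw [map_inv]
    exact this
  · exact hr

end Cfg

end Cfsg.Agent.H476.HM8
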